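import Groth.Prelude.Def_CechEdge
import Groth.Agent.SiteCoh.Compare
import Groth.Agent.SiteCoh.Over
import Groth.Agent.CechGen.Exact

/-!
Basic properties of the Čech complex of presheaves and the maps to sheaf cohomology.
-/

set_option autoImplicit false
set_option linter.style.haveILetI false
set_option backward.isDefEq.respectTransparency false
set_option maxHeartbeats 400000

universe u

open CategoryTheory CategoryTheory.Limits Opposite Abelian

noncomputable section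

namespace Groth.Agent.CechEdgeLib

variable {C : Type u} [SmallCategory C]

instance : EnoughInjectives (Cᵒᵖ ⥤ AddCommGrpCat.{u}) where
  presentation P := ⟨{
    J := SiteCoh.coind fun V => Injective.under (P.obj (op V))
    injective := SiteCoh.injective_coind _
    f := SiteCoh.toCoindInj P }⟩

variable [HasPullbacks C] {J : GrothendieckTopology C} {U : C} {ι : Type u} (Y : ι → Over U)

theorem cx_shortExact {S : ShortComplex (Cᵒᵖ ⥤ AddCommGrpCat.{u})} (hS : S.ShortExact) :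
    (S.map (CechEdge.cxFunctor Y)).ShortExact :=
  CechGen.cxFun_shortExact Y S hS

theorem isZero_cechH_injective (I : Cᵒᵖ ⥤ AddCommGrpCat.{u}) [Injective I] (p : ℕ) :
    IsZero (CohCx.cechH I Y (p + 1)) :=
  CechGen.isZero_cechH Y I p

/-- The connecting map of the Čech complexes. -/
abbrev cδ {S : ShortComplex (Cᵒᵖ ⥤ AddCommGrpCat.{u})} (hS : S.ShortExact) (p : ℕ) :
    CohCx.cechH S.X₃ Y p →+ CohCx.cechH S.X₁ Y (p + 1) :=
  ((cx_shortExact Y hS).δ p (p + 1) rfl).hom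

theorem cδ_natural {S T : ShortComplex (Cᵒᵖ ⥤ AddCommGrpCat.{u})} (hS : S.ShortExact) (hT : T.ShortExact)
    (φ : S ⟶ T) (p : ℕ) (x : CohCx.cechH S.X₃ Y p) :
    CechEdge.cechHMap Y φ.τ₁ (p + 1) (cδ Y hS p x) = cδ Y hT p (CechEdge.cechHMap Y φ.τ₃ p x) :=
  ConcreteCategory.congr_hom (HomologicalComplex.HomologySequence.δ_naturality
    ((CechEdge.cxFunctor Y).mapShortComplex.map φ) (cx_shortExact Y hS) (cx_shortExact Y hT) p (p + 1) rfl) x

theorem cδ_surjective {S : ShortComplex (Cᵒᵖ ⥤ AddCommGrpCat.{u})} (hS : S.ShortExact) (p : ℕ)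
    [Injective S.X₂] : Function.Surjective (cδ Y hS p) :=
  (AddCommGrpCat.epi_iff_surjective _).mp ((cx_shortExact Y hS).epi_δ p (p + 1) rfl (isZero_cechH_injective Y _ p))

theorem cδ_eq_zero {S : ShortComplex (Cᵒᵖ ⥤ AddCommGrpCat.{u})} (hS : S.ShortExact) (p : ℕ)
    (x : CohCx.cechH S.X₃ Y p) (hx : cδ Y hS p x = 0) : ∃ y, CechEdge.cechHMap Y S.g p y = x :=
  (ShortComplex.ab_exact_iff _).mp ((cx_shortExact Y hS).homology_exact₃ p (p + 1) rfl) x hx

theorem cechHMap_comp {P Q R : Cᵒᵖ ⥤ AddCommGrpCat.{u}} (φ : P ⟶ Q) (ψ : Q ⟶ R) (p : ℕ)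
    (x : CohCx.cechH P Y p) :
    CechEdge.cechHMap Y (φ ≫ ψ) p x = CechEdge.cechHMap Y ψ p (CechEdge.cechHMap Y φ p x) := by
  simp only [CechEdge.cechHMap]
  rw [Functor.map_comp, HomologicalComplex.homologyMap_comp]
  rfl

theorem cechHMap_id (P : Cᵒᵖ ⥤ AddCommGrpCat.{u}) (p : ℕ) (x : CohCx.cechH P Y p) :
    CechEdge.cechHMap Y (𝟙 P) p x = x := by
  simp only [CechEdge.cechHMap]
  rw [CategoryTheory.Functor.map_id, HomologicalComplex.homologyMap_id]
  rfl

omit [HasPullbacks C] in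
theorem class_natural {K L : CochainComplex AddCommGrpCat.{u} ℕ} (f : K ⟶ L) {A B : AddCommGrpCat.{u}}
    (g : A ⟶ B) (a : A ⟶ K.X 0) (b : B ⟶ L.X 0) (ha : a ≫ K.d 0 1 = 0) (hb : b ≫ L.d 0 1 = 0)
    (h : a ≫ f.f 0 = g ≫ b) :
    (K.liftCycles a 1 (by simp) ha ≫ K.homologyπ 0) ≫ HomologicalComplex.homologyMap f 0 =
      g ≫ L.liftCycles b 1 (by simp) hb ≫ L.homologyπ 0 := by
  rw [Category.assoc, HomologicalComplex.homologyπ_naturality, ← Category.assoc, ← Category.assoc]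
  congr 1
  rw [← cancel_mono (L.iCycles 0), Category.assoc, Category.assoc, HomologicalComplex.cyclesMap_i,
    HomologicalComplex.liftCycles_i, HomologicalComplex.liftCycles_i_assoc, h]

theorem toCech_natural {P Q : Cᵒᵖ ⥤ AddCommGrpCat.{u}} (φ : P ⟶ Q) (s : P.obj (op U)) :
    CechEdge.cechHMap Y φ 0 (CechEdge.toCech Y P s) = CechEdge.toCech Y Q (φ.app (op U) s) := by
  have h : CechEdge.toCech₀ P Y ≫ ((CechEdge.cxFunctor Y).map φ).f 0 =
      φ.app (op U) ≫ CechEdge.toCech₀ Q Y := by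
    ext t
    refine (CechGen.cochainEquiv Y ((Over.forget U).op ⋙ Q) 0).injective (funext fun a => ?_)
    refine (CechGen.cxFun_apply Y φ 0 _ a).trans ?_
    rw [CechGen.cochainEquiv_apply, CechGen.cochainEquiv_apply]
    refine (congrArg (φ.app _) (ConcreteCategory.congr_hom (Pi.lift_π
      (fun (i : Fin 1 → ι) => P.map (∏ᶜ (Y ∘ i)).hom.op) a) t)).trans ?_
    refine ((ConcreteCategory.congr_hom (Pi.lift_π
      (fun (i : Fin 1 → ι) => Q.map (∏ᶜ (Y ∘ i)).hom.op) a) (φ.app (op U) t)).trans ?_).symm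
    exact (NatTrans.naturality_apply φ _ t).symm
  exact ConcreteCategory.congr_hom (class_natural (K := CechEdge.cx P Y) (L := CechEdge.cx Q Y)
    ((CechEdge.cxFunctor Y).map φ) (φ.app (op U)) (CechEdge.toCech₀ P Y) (CechEdge.toCech₀ Q Y)
    (CechEdge.toCech₀_d P Y) (CechEdge.toCech₀_d Q Y) h) s

theorem toCech_eq_augH (hY : Sieve.ofArrows (fun i => (Y i).left) (fun i => (Y i).hom) ∈ J U)
    (F : Sheaf J AddCommGrpCat.{u}) (s : F.obj.obj (op U)) :
    CechEdge.toCech Y F.obj s = SiteCoh.augH (SiteCoh.overData Y hY) F s := by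
  have h : CechEdge.toCech₀ F.obj Y = SiteCoh.augHom (SiteCoh.overData Y hY) F := by
    ext t
    refine (SiteCoh.cochainEquiv Y ((Over.forget U).op ⋙ F.obj) 0).injective ?_
    refine Eq.trans ?_ (AddEquiv.apply_symm_apply _ _).symm
    funext a
    rw [SiteCoh.cochainEquiv_apply]
    refine (ConcreteCategory.congr_hom (Pi.lift_π
      (fun (i : Fin 1 → ι) => F.obj.map (∏ᶜ (Y ∘ i)).hom.op) a) t).trans ?_
    simp only [SiteCoh.aug]
    congr 4
    exact (Over.w _).symm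
  have h' : CechEdge.toCycles F.obj Y = (SiteCoh.cechCx Y (SiteCoh.res' (Over.forget U) F)).liftCycles
      (SiteCoh.augHom (SiteCoh.overData Y hY) F) 1 (by simp) (SiteCoh.augHom_d _ F) := by
    simp only [CechEdge.toCycles, h]
  simp only [CechEdge.toCech, SiteCoh.augH, h']

theorem toCech_bijective (hY : Sieve.ofArrows (fun i => (Y i).left) (fun i => (Y i).hom) ∈ J U)
    (F : Sheaf J AddCommGrpCat.{u}) : Function.Bijective (CechEdge.toCech Y F.obj) := by
  convert SiteCoh.augH_bijective (SiteCoh.overData Y hY) F using 1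
  exact funext fun s => toCech_eq_augH Y hY F s

omit [HasPullbacks C] in
theorem HUmap_comp {F G H : Sheaf J AddCommGrpCat.{u}} (φ : F ⟶ G) (ψ : G ⟶ H) (p : ℕ) (x : CohSite.HU F p U) :
    CechEdge.HUmap (φ ≫ ψ) p U x = CechEdge.HUmap ψ p U (CechEdge.HUmap φ p U x) := by
  simp only [CechEdge.HUmap, Functor.map_comp]
  rfl

omit [HasPullbacks C] in
theorem HUmap_id (F : Sheaf J AddCommGrpCat.{u}) (p : ℕ) (x : CohSite.HU F p U) :
    CechEdge.HUmap (𝟙 F) p U x = x := by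
  simp only [CechEdge.HUmap, CategoryTheory.Functor.map_id]
  rfl

omit [HasPullbacks C] in
theorem HUmap_eq_comp {F G : Sheaf J AddCommGrpCat.{u}} (φ : F ⟶ G) (p : ℕ) (x : CohSite.HU F p U) :
    CechEdge.HUmap φ p U x = x.comp (Ext.mk₀ φ) (add_zero p) := rfl

omit [HasPullbacks C] in
theorem HUmap_bijective {F G : Sheaf J AddCommGrpCat.{u}} (φ : F ⟶ G) [IsIso φ] (p : ℕ) :
    Function.Bijective (CechEdge.HUmap φ p U) := by
  refine Function.bijective_iff_has_inverse.mpr ⟨CechEdge.HUmap (inv φ) p U, fun x => ?_, fun x => ?_⟩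
  · rw [← HUmap_comp, IsIso.hom_inv_id, HUmap_id]
  · rw [← HUmap_comp, IsIso.inv_hom_id, HUmap_id]

omit [HasPullbacks C] in
theorem extδ_natural {S T : ShortComplex (Sheaf J AddCommGrpCat.{u})} (hS : S.ShortExact) (hT : T.ShortExact)
    (φ : S ⟶ T) (p : ℕ) (x : CohSite.HU S.X₃ p U) :
    CechEdge.HUmap φ.τ₁ (p + 1) U (CechEdge.extδ hS U p x) =
      CechEdge.extδ hT U p (CechEdge.HUmap φ.τ₃ p U x) := by
  rw [HUmap_eq_comp, HUmap_eq_comp]
  show (x.comp hS.extClass rfl).comp (Ext.mk₀ φ.τ₁) (add_zero _) =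
    (x.comp (Ext.mk₀ φ.τ₃) (add_zero p)).comp hT.extClass rfl
  rw [Ext.comp_assoc _ _ _ rfl (add_zero 1) (by omega), ShortComplex.ShortExact.extClass_naturality hS hT φ,
    Ext.comp_assoc _ _ _ (add_zero p) (zero_add 1) (by omega)]

omit [HasPullbacks C] in
theorem extδ_g {S : ShortComplex (Sheaf J AddCommGrpCat.{u})} (hS : S.ShortExact) (p : ℕ)
    (x : CohSite.HU S.X₂ p U) : CechEdge.extδ hS U p (CechEdge.HUmap S.g p U x) = 0 := by
  rw [HUmap_eq_comp]
  show (x.comp (Ext.mk₀ S.g) (add_zero p)).comp hS.extClass rfl = 0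
  rw [Ext.comp_assoc _ _ _ (add_zero p) (zero_add 1) (by omega), hS.comp_extClass, Ext.comp_zero]

omit [HasPullbacks C] in
theorem sectH0_natural {F G : Sheaf J AddCommGrpCat.{u}} (φ : F ⟶ G) (s : F.obj.obj (op U)) :
    CechEdge.HUmap φ 0 U (CechEdge.sectH0 J U F s) = CechEdge.sectH0 J U G (φ.hom.app (op U) s) := by
  apply (CechEdge.sectH0 J U G).symm.injective
  rw [AddEquiv.symm_apply_apply, HUmap_eq_comp]
  show CohFree.homEquivSect J U G (Ext.addEquiv₀ ((Ext.addEquiv₀.symm ((CohFree.homEquivSect J U F).symm s)).comp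
    (Ext.mk₀ φ) (add_zero 0))) = _
  rw [Ext.addEquiv₀_symm_apply, Ext.mk₀_comp_mk₀, ← Ext.addEquiv₀_symm_apply, AddEquiv.apply_symm_apply,
    CohFree.homEquivSect_apply]
  conv_rhs => rw [← (CohFree.homEquivSect J U F).apply_symm_apply s, CohFree.homEquivSect_apply]
  rfl

end Groth.Agent.CechEdgeLib
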