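import Groth.Agent.CechEdgeLib.Basic

/-!
Existence and uniqueness of the maps from Čech cohomology to sheaf cohomology (universal δ-functor).
-/

set_option autoImplicit false
set_option linter.style.haveILetI false
set_option linter.unusedSectionVars false
set_option backward.isDefEq.respectTransparency false
set_option maxHeartbeats 1000000

universe u

open CategoryTheory CategoryTheory.Limits Opposite Abelian

noncomputable section

namespace Groth.Agent.CechEdgeLib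

variable {C : Type u} [SmallCategory C] [HasPullbacks C] {J : GrothendieckTopology C} {U : C} {ι : Type u}
  (Y : ι → Over U)

/-- A natural family in one degree. -/
abbrev Fam (J : GrothendieckTopology C) {U : C} {ι : Type u} (Y : ι → Over U) (p : ℕ) : Type (u + 1) :=
  {e : ∀ P : Cᵒᵖ ⥤ AddCommGrpCat.{u}, CohCx.cechH P Y p →+ CohSite.HU (CechEdge.shf J P) p U //
    ∀ (P Q : Cᵒᵖ ⥤ AddCommGrpCat.{u}) (φ : P ⟶ Q) (x : CohCx.cechH P Y p),
      e Q (CechEdge.cechHMap Y φ p x) = CechEdge.HUmap (CechEdge.shfMap J φ) p U (e P x)}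

/-- The connecting map of the associated sheaves. -/
abbrev sδ (J : GrothendieckTopology C) (U : C) {S : ShortComplex (Cᵒᵖ ⥤ AddCommGrpCat.{u})} (hS : S.ShortExact)
    (p : ℕ) : CohSite.HU (CechEdge.shf J S.X₃) p U →+ CohSite.HU (CechEdge.shf J S.X₁) (p + 1) U :=
  CechEdge.extδ (hS.map_of_exact (presheafToSheaf J AddCommGrpCat.{u})) U p

theorem sδ_natural {S T : ShortComplex (Cᵒᵖ ⥤ AddCommGrpCat.{u})} (hS : S.ShortExact) (hT : T.ShortExact)
    (φ : S ⟶ T) (p : ℕ) (x : CohSite.HU (CechEdge.shf J S.X₃) p U) :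
    CechEdge.HUmap (CechEdge.shfMap J φ.τ₁) (p + 1) U (sδ J U hS p x) =
      sδ J U hT p (CechEdge.HUmap (CechEdge.shfMap J φ.τ₃) p U x) :=
  extδ_natural (hS.map_of_exact _) (hT.map_of_exact _)
    ((presheafToSheaf J AddCommGrpCat.{u}).mapShortComplex.map φ) p x

/-- A map of short exact sequences extending a map of the first terms, when the middle target is injective. -/
theorem exists_hom {A : Type (u + 1)} [Category.{u} A] [Abelian A] {S T : ShortComplex A} (hS : S.ShortExact)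
    [Injective T.X₂] (φ : S.X₁ ⟶ T.X₁) : ∃ Φ : S ⟶ T, Φ.τ₁ = φ := by
  haveI := hS.mono_f
  haveI := hS.epi_g
  let a := Injective.factorThru (φ ≫ T.f) S.f
  have ha : S.f ≫ a = φ ≫ T.f := Injective.comp_factorThru _ _
  let b := hS.exact.desc (a ≫ T.g) (by rw [reassoc_of% ha, T.zero, comp_zero])
  exact ⟨{ τ₁ := φ, τ₂ := a, τ₃ := b, comm₁₂ := ha.symm, comm₂₃ := (hS.exact.g_desc _ _).symm }, rfl⟩

theorem fam_g {p : ℕ} (e : Fam J Y p) {S : ShortComplex (Cᵒᵖ ⥤ AddCommGrpCat.{u})} (hS : S.ShortExact)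
    (y : CohCx.cechH S.X₂ Y p) : sδ J U hS p (e.1 S.X₃ (CechEdge.cechHMap Y S.g p y)) = 0 := by
  rw [e.2]
  exact extδ_g (hS.map_of_exact _) p _

theorem exists_step {p : ℕ} (e : Fam J Y p) (P : Cᵒᵖ ⥤ AddCommGrpCat.{u}) :
    ∃ h : CohCx.cechH P Y (p + 1) →+ CohSite.HU (CechEdge.shf J P) (p + 1) U,
      ∀ z : CohCx.cechH (SiteCoh.embedSeq P).X₃ Y p,
        h (cδ Y (SiteCoh.embedSeq_shortExact P) p z) =
          sδ J U (SiteCoh.embedSeq_shortExact P) p (e.1 _ z) := by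
  let hS := SiteCoh.embedSeq_shortExact P
  let d : CohCx.cechH (SiteCoh.embedSeq P).X₃ Y p →+ CohCx.cechH P Y (p + 1) := cδ Y hS p
  let f : CohCx.cechH (SiteCoh.embedSeq P).X₃ Y p →+ CohSite.HU (CechEdge.shf J P) (p + 1) U :=
    (sδ J U hS p).comp (e.1 (SiteCoh.embedSeq P).X₃)
  have hd : Function.Surjective d := cδ_surjective Y hS p
  have hker : d.ker ≤ f.ker := fun z hz => by
    obtain ⟨y, rfl⟩ := cδ_eq_zero Y hS p z hz
    exact fam_g Y e hS y
  exact ⟨AddMonoidHom.liftOfSurjective d hd ⟨f, hker⟩, fun z =>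
    AddMonoidHom.liftOfRightInverse_comp_apply _ _ (Function.rightInverse_surjInv hd) ⟨f, hker⟩ z⟩

theorem step_delta {p : ℕ} (e : Fam J Y p)
    (h : ∀ P : Cᵒᵖ ⥤ AddCommGrpCat.{u}, CohCx.cechH P Y (p + 1) →+ CohSite.HU (CechEdge.shf J P) (p + 1) U)
    (hh : ∀ (P : Cᵒᵖ ⥤ AddCommGrpCat.{u}) (z : CohCx.cechH (SiteCoh.embedSeq P).X₃ Y p),
      h P (cδ Y (SiteCoh.embedSeq_shortExact P) p z) = sδ J U (SiteCoh.embedSeq_shortExact P) p (e.1 _ z))
    {S : ShortComplex (Cᵒᵖ ⥤ AddCommGrpCat.{u})} (hS : S.ShortExact) (Q : Cᵒᵖ ⥤ AddCommGrpCat.{u})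
    (φ : S.X₁ ⟶ Q) (z : CohCx.cechH S.X₃ Y p) :
    h Q (CechEdge.cechHMap Y φ (p + 1) (cδ Y hS p z)) =
      CechEdge.HUmap (CechEdge.shfMap J φ) (p + 1) U (sδ J U hS p (e.1 _ z)) := by
  obtain ⟨Φ, hΦ⟩ := exists_hom (T := SiteCoh.embedSeq Q) hS φ
  subst hΦ
  rw [cδ_natural Y hS (SiteCoh.embedSeq_shortExact Q) Φ, hh, e.2,
    sδ_natural hS (SiteCoh.embedSeq_shortExact Q) Φ]

theorem exists_next {p : ℕ} (e : Fam J Y p) : ∃ h : Fam J Y (p + 1),
    ∀ (S : ShortComplex (Cᵒᵖ ⥤ AddCommGrpCat.{u})) (hS : S.ShortExact) (z : CohCx.cechH S.X₃ Y p),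
      h.1 S.X₁ (cδ Y hS p z) = sδ J U hS p (e.1 _ z) := by
  choose h hh using exists_step Y e
  refine ⟨⟨h, fun P Q φ x => ?_⟩, fun S hS z => ?_⟩
  · obtain ⟨z, rfl⟩ := cδ_surjective Y (SiteCoh.embedSeq_shortExact P) p x
    exact (step_delta Y e h hh (SiteCoh.embedSeq_shortExact P) Q φ z).trans
      (congrArg _ (hh P z).symm)
  · have := step_delta Y e h hh hS S.X₁ (𝟙 _) z
    rw [cechHMap_id] at this
    refine this.trans ?_
    rw [CechEdge.shfMap, CategoryTheory.Functor.map_id, HUmap_id]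

variable (hY : Sieve.ofArrows (fun i => (Y i).left) (fun i => (Y i).hom) ∈ J U)

/-- Degree zero Čech cohomology of a sheaf is the group of sections. -/
def toCechEquiv (F : Sheaf J AddCommGrpCat.{u}) : F.obj.obj (op U) ≃+ CohCx.cechH F.obj Y 0 :=
  AddEquiv.ofBijective (CechEdge.toCech Y F.obj) (toCech_bijective Y hY F)

/-- The map in degree zero. -/
def e0 (P : Cᵒᵖ ⥤ AddCommGrpCat.{u}) : CohCx.cechH P Y 0 →+ CohSite.HU (CechEdge.shf J P) 0 U :=
  ((CechEdge.sectH0 J U (CechEdge.shf J P)).toAddMonoidHom.comp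
    (toCechEquiv Y hY (CechEdge.shf J P)).symm.toAddMonoidHom).comp
      (CechEdge.cechHMap Y (toSheafify J P) 0)

theorem e0_toCech (P : Cᵒᵖ ⥤ AddCommGrpCat.{u}) (s : P.obj (op U)) :
    e0 Y hY P (CechEdge.toCech Y P s) =
      CechEdge.sectH0 J U (CechEdge.shf J P) ((toSheafify J P).app (op U) s) := by
  show CechEdge.sectH0 J U _ ((toCechEquiv Y hY (CechEdge.shf J P)).symm _) = _
  congr 1
  rw [AddEquiv.symm_apply_eq]
  exact toCech_natural Y (toSheafify J P) s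

theorem e0_natural (P Q : Cᵒᵖ ⥤ AddCommGrpCat.{u}) (φ : P ⟶ Q) (x : CohCx.cechH P Y 0) :
    e0 Y hY Q (CechEdge.cechHMap Y φ 0 x) = CechEdge.HUmap (CechEdge.shfMap J φ) 0 U (e0 Y hY P x) := by
  show CechEdge.sectH0 J U _ ((toCechEquiv Y hY (CechEdge.shf J Q)).symm _) =
    CechEdge.HUmap _ 0 U (CechEdge.sectH0 J U _ ((toCechEquiv Y hY (CechEdge.shf J P)).symm _))
  rw [sectH0_natural]
  congr 1
  rw [AddEquiv.symm_apply_eq, ← cechHMap_comp]
  rw [show φ ≫ toSheafify J Q = toSheafify J P ≫ (CechEdge.shfMap J φ).hom from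
    (sheafificationAdjunction J AddCommGrpCat.{u}).unit.naturality φ, cechHMap_comp]
  obtain ⟨s, hs⟩ := (toCechEquiv Y hY (CechEdge.shf J P)).surjective (CechEdge.cechHMap Y (toSheafify J P) 0 x)
  rw [← hs, AddEquiv.symm_apply_apply]
  exact toCech_natural Y (CechEdge.shfMap J φ).hom s

/-- The family in all degrees. -/
def edgeFam : ∀ p : ℕ, Fam J Y p
  | 0 => ⟨e0 Y hY, e0_natural Y hY⟩
  | p + 1 => (exists_next Y (edgeFam p)).choose

include hY in
theorem exists_isEdge : ∃ e : ∀ (P : Cᵒᵖ ⥤ AddCommGrpCat.{u}) (p : ℕ),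
    CohCx.cechH P Y p →+ CohSite.HU (CechEdge.shf J P) p U, CechEdge.IsEdge J Y e :=
  ⟨fun P p => (edgeFam Y hY p).1 P,
    { cover := hY
      zero := e0_toCech Y hY
      natural := fun P Q φ p x => (edgeFam Y hY p).2 P Q φ x
      delta := fun S hS hC p x => (exists_next Y (edgeFam Y hY p)).choose_spec S hS x }⟩

variable {Y}

theorem HUmap_toSheafify_injective (P : Cᵒᵖ ⥤ AddCommGrpCat.{u}) (p : ℕ) :
    Function.Injective (CechEdge.HUmap (CechEdge.shfMap J (toSheafify J P)) p U) := by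
  intro a b h
  have e : CechEdge.shfMap J (toSheafify J P) ≫ (sheafificationAdjunction J AddCommGrpCat.{u}).counit.app
      (CechEdge.shf J P) = 𝟙 _ := (sheafificationAdjunction J AddCommGrpCat.{u}).left_triangle_components P
  have := congrArg (CechEdge.HUmap ((sheafificationAdjunction J AddCommGrpCat.{u}).counit.app
    (CechEdge.shf J P)) p U) h
  have key : ∀ x : CohSite.HU (CechEdge.shf J P) p U, CechEdge.HUmap
      ((sheafificationAdjunction J AddCommGrpCat.{u}).counit.app (CechEdge.shf J P)) p U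
      (CechEdge.HUmap (CechEdge.shfMap J (toSheafify J P)) p U x) = x := fun x => by
    refine (HUmap_comp _ _ p x).symm.trans ?_
    rw [e]
    exact HUmap_id _ p x
  exact (key a).symm.trans (this.trans (key b))

theorem edge_delta
    {e : ∀ (P : Cᵒᵖ ⥤ AddCommGrpCat.{u}) (p : ℕ), CohCx.cechH P Y p →+ CohSite.HU (CechEdge.shf J P) p U}
    (he : CechEdge.IsEdge J Y e) {S : ShortComplex (Cᵒᵖ ⥤ AddCommGrpCat.{u})} (hS : S.ShortExact) (p : ℕ)
    (z : CohCx.cechH S.X₃ Y p) : e S.X₁ (p + 1) (cδ Y hS p z) = sδ J U hS p (e S.X₃ p z) :=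
  he.delta S hS (cx_shortExact Y hS) p z

theorem isEdge_unique
    {e e' : ∀ (P : Cᵒᵖ ⥤ AddCommGrpCat.{u}) (p : ℕ), CohCx.cechH P Y p →+ CohSite.HU (CechEdge.shf J P) p U}
    (he : CechEdge.IsEdge J Y e) (he' : CechEdge.IsEdge J Y e') : e = e' := by
  suffices h : ∀ (p : ℕ) (P : Cᵒᵖ ⥤ AddCommGrpCat.{u}) (x : CohCx.cechH P Y p), e P p x = e' P p x from
    funext fun P => funext fun p => AddMonoidHom.ext (h p P)
  intro p
  induction p with
  | zero =>
    intro P x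
    apply HUmap_toSheafify_injective P 0
    rw [← he.natural, ← he'.natural]
    obtain ⟨s, hs⟩ := (toCech_bijective Y he.cover (CechEdge.shf J P)).2
      (CechEdge.cechHMap Y (toSheafify J P) 0 x)
    exact hs ▸ (he.zero _ s).trans (he'.zero _ s).symm
  | succ p ih =>
    intro P x
    obtain ⟨z, rfl⟩ := cδ_surjective Y (SiteCoh.embedSeq_shortExact P) p x
    exact (edge_delta he (SiteCoh.embedSeq_shortExact P) p z).trans
      ((congrArg _ (ih _ z)).trans (edge_delta he' (SiteCoh.embedSeq_shortExact P) p z).symm)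

end Groth.Agent.CechEdgeLib
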