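import Groth.Agent.CechEdgeLib.Sheaf

/-!
A presheaf is a sheaf iff restriction to every covering family induces a bijection onto `Ȟ⁰`.
-/

set_option autoImplicit false
set_option linter.style.haveILetI false
set_option backward.isDefEq.respectTransparency false
set_option maxHeartbeats 1000000

universe u

open CategoryTheory CategoryTheory.Limits Opposite

noncomputable section

namespace Groth.Agent.CechEdgeLib

variable {C : Type u} [SmallCategory C] [HasPullbacks C] {J : GrothendieckTopology C} {U : C} {ι : Type u}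
  {Y : ι → Over U}

theorem toCech₀_apply (P : Cᵒᵖ ⥤ AddCommGrpCat.{u}) (s : P.obj (op U)) (a : Fin 1 → ι) :
    CechGen.cochainEquiv Y ((Over.forget U).op ⋙ P) 0 (CechEdge.toCech₀ P Y s) a =
      P.map (∏ᶜ (Y ∘ a)).hom.op s := by
  rw [CechGen.cochainEquiv_apply]
  exact ConcreteCategory.congr_hom (Pi.lift_π (fun (i : Fin 1 → ι) => P.map (∏ᶜ (Y ∘ i)).hom.op) a) s

theorem toCech_eq_iff (P : Cᵒᵖ ⥤ AddCommGrpCat.{u}) (s : P.obj (op U)) (z : (CechEdge.cx P Y).cycles 0) :
    CechEdge.toCech Y P s = (CechEdge.cx P Y).homologyπ 0 z ↔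
      CechEdge.toCech₀ P Y s = (CechEdge.cx P Y).iCycles 0 z := by
  have hπ : Function.Bijective ((CechEdge.cx P Y).homologyπ 0) := by
    haveI := (CechEdge.cx P Y).isIso_homologyπ _ 0 rfl ((CechEdge.cx P Y).shape _ _ (by simp))
    exact (ConcreteCategory.isIso_iff_bijective _).mp inferInstance
  have hi := (AddCommGrpCat.mono_iff_injective ((CechEdge.cx P Y).iCycles 0)).mp inferInstance
  have h1 : (CechEdge.cx P Y).iCycles 0 (CechEdge.toCycles P Y s) = CechEdge.toCech₀ P Y s :=
    ConcreteCategory.congr_hom (CechEdge.toCycles_i P Y) s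
  rw [← h1]
  refine ⟨fun h => congrArg _ (hπ.1 h), fun h => ?_⟩
  show (CechEdge.cx P Y).homologyπ 0 (CechEdge.toCycles P Y s) = _
  rw [hi h]

theorem isSheaf_of_toCech (P : Cᵒᵖ ⥤ AddCommGrpCat.{u})
    (h : ∀ (U : C) (ι : Type u) (Y : ι → Over U),
      Sieve.ofArrows (fun i => (Y i).left) (fun i => (Y i).hom) ∈ J U → Function.Bijective (CechEdge.toCech Y P)) :
    Presheaf.IsSheaf J P := by
  have cov : ∀ (V : C) (T : Sieve V), T ∈ J V →
      Sieve.ofArrows (fun i : Σ W : C, {f : W ⟶ V // T f} => (Over.mk i.2.1).left)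
        (fun i : Σ W : C, {f : W ⟶ V // T f} => (Over.mk i.2.1).hom) ∈ J V := fun V T hT =>
    J.superset_covering (fun W f hf => Sieve.ofArrows_mk (fun i : Σ W : C, {f : W ⟶ V // T f} => (Over.mk i.2.1).left)
      (fun i => (Over.mk i.2.1).hom) ⟨W, f, hf⟩) hT
  have inj : ∀ V : C, Function.Injective ((toSheafify J P).app (op V)) := by
    intro V s t hst
    let T := Presheaf.equalizerSieve (F := P) (X := op V) s t
    have hT : T ∈ J V := Presheaf.equalizerSieve_mem J (toSheafify J P) s t hst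
    let Y' : (Σ W : C, {f : W ⟶ V // T f}) → Over V := fun i => Over.mk i.2.1
    refine (h V _ Y' (cov V T hT)).1 ?_
    refine (toCech_eq_iff P s (CechEdge.toCycles P Y' t)).mpr ?_
    refine (CechGen.cochainEquiv Y' ((Over.forget V).op ⋙ P) 0).injective (funext fun a => ?_)
    rw [toCech₀_apply, show (CechEdge.cx P Y').iCycles 0 (CechEdge.toCycles P Y' t) = CechEdge.toCech₀ P Y' t from
      ConcreteCategory.congr_hom (CechEdge.toCycles_i P Y') t, toCech₀_apply]
    rw [← Over.w (Pi.π (Y' ∘ a) 0), op_comp, Functor.map_comp]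
    exact congrArg (P.map (Pi.π (Y' ∘ a) 0).left.op) (a 0).2.2
  have surj : ∀ V : C, Function.Surjective ((toSheafify J P).app (op V)) := by
    intro V t
    let T := Presheaf.imageSieve (toSheafify J P) t
    have hT : T ∈ J V := Presheaf.imageSieve_mem J (toSheafify J P) t
    let Y' : (Σ W : C, {f : W ⟶ V // T f}) → Over V := fun i => Over.mk i.2.1
    choose x hx using fun i : Σ W : C, {f : W ⟶ V // T f} => i.2.2
    let c := (CechGen.cochainEquiv Y' ((Over.forget V).op ⋙ P) 0).symm fun a =>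
      P.map (Pi.π (Y' ∘ a) 0).left.op (x (a 0))
    have hc : ((CechEdge.cxFunctor Y').map (toSheafify J P)).f 0 c =
        CechEdge.toCech₀ (CechEdge.shf J P).obj Y' t := by
      refine (CechGen.cochainEquiv Y' ((Over.forget V).op ⋙ (CechEdge.shf J P).obj) 0).injective (funext fun a => ?_)
      refine (CechGen.cxFun_apply Y' (toSheafify J P) 0 c a).trans ?_
      rw [AddEquiv.apply_symm_apply, toCech₀_apply]
      refine (NatTrans.naturality_apply (toSheafify J P) (Pi.π (Y' ∘ a) 0).left.op (x (a 0))).trans ?_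
      refine (congrArg _ (hx (a 0))).trans ?_
      rw [← Over.w (Pi.π (Y' ∘ a) 0), op_comp, Functor.map_comp]
      rfl
    have hd : (CechEdge.cx P Y').d 0 1 c = 0 := by
      refine cx_map_injective (Y := Y') (toSheafify J P) 1 (fun a => inj _) ?_
      refine (ConcreteCategory.congr_hom (((CechEdge.cxFunctor Y').map (toSheafify J P)).comm 0 1) c).symm.trans ?_
      rw [ConcreteCategory.comp_apply, hc]
      exact (ConcreteCategory.congr_hom (CechEdge.toCech₀_d (CechEdge.shf J P).obj Y') t).trans (map_zero _).symm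
    obtain ⟨z, hz⟩ : ∃ z, (CechEdge.cx P Y').iCycles 0 z = c :=
      (ShortComplex.ab_exact_iff _).mp
        (ShortComplex.exact_of_f_is_kernel
          (ShortComplex.mk ((CechEdge.cx P Y').iCycles 0) ((CechEdge.cx P Y').d 0 1) ((CechEdge.cx P Y').iCycles_d 0 1))
          ((CechEdge.cx P Y').cyclesIsKernel 0 1 (by simp))) c hd
    obtain ⟨s, hs⟩ := (h V _ Y' (cov V T hT)).2 ((CechEdge.cx P Y').homologyπ 0 z)
    refine ⟨s, (toCech_bijective Y' (cov V T hT) (CechEdge.shf J P)).1 ?_⟩
    refine (toCech_natural Y' (toSheafify J P) s).symm.trans ?_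
    rw [hs]
    have e2 := ConcreteCategory.congr_hom (HomologicalComplex.homologyπ_naturality
      ((CechEdge.cxFunctor Y').map (toSheafify J P)) 0) z
    refine e2.trans ?_
    show (CechEdge.cx (CechEdge.shf J P).obj Y').homologyπ 0 _ =
      (CechEdge.cx (CechEdge.shf J P).obj Y').homologyπ 0 (CechEdge.toCycles (CechEdge.shf J P).obj Y' t)
    refine congrArg ((CechEdge.cx (CechEdge.shf J P).obj Y').homologyπ 0) ?_
    refine (AddCommGrpCat.mono_iff_injective ((CechEdge.cx (CechEdge.shf J P).obj Y').iCycles 0)).mp inferInstance ?_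
    refine (ConcreteCategory.congr_hom (HomologicalComplex.cyclesMap_i
      ((CechEdge.cxFunctor Y').map (toSheafify J P)) 0) z).trans ?_
    refine (congrArg _ hz).trans (hc.trans ?_)
    exact (ConcreteCategory.congr_hom (CechEdge.toCycles_i (CechEdge.shf J P).obj Y') t).symm
  haveI : ∀ V, IsIso ((toSheafify J P).app V) := fun V =>
    (ConcreteCategory.isIso_iff_bijective _).mpr ⟨inj V.unop, surj V.unop⟩
  haveI : IsIso (toSheafify J P) := NatIso.isIso_of_isIso_app _
  exact (Presheaf.isSheaf_of_iso_iff (asIso (toSheafify J P))).mpr (CechEdge.shf J P).property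

theorem isSheaf_iff_toCech (P : Cᵒᵖ ⥤ AddCommGrpCat.{u}) :
    Presheaf.IsSheaf J P ↔ ∀ (U : C) (ι : Type u) (Y : ι → Over U),
      Sieve.ofArrows (fun i => (Y i).left) (fun i => (Y i).hom) ∈ J U → Function.Bijective (CechEdge.toCech Y P) :=
  ⟨fun hP _ _ Y hY => toCech_bijective Y hY ⟨P, hP⟩, isSheaf_of_toCech P⟩

end Groth.Agent.CechEdgeLib
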