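import Groth.Agent.CechEdgeLib.Sheaf

/-!
Compatibility of the comparison maps with refinements.
-/

set_option autoImplicit false
set_option linter.style.haveILetI false
set_option backward.isDefEq.respectTransparency false
set_option maxHeartbeats 1000000

universe u

open CategoryTheory CategoryTheory.Limits Opposite

noncomputable section

namespace Groth.Agent.CechEdgeLib

variable {C : Type u} [SmallCategory C] [HasPullbacks C] {J : GrothendieckTopology C} {U : C} {ι κ : Type u}
  {Y : ι → Over U} {Y' : κ → Over U} (f : FormalCoproduct.mk ι Y ⟶ FormalCoproduct.mk κ Y')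

theorem cechRefine_natural {P Q : Cᵒᵖ ⥤ AddCommGrpCat.{u}} (φ : P ⟶ Q) :
    (CechEdge.cxFunctor Y').map φ ≫ CohCx.cechRefine Q f =
      CohCx.cechRefine P f ≫ (CechEdge.cxFunctor Y).map φ := by
  refine ((AlgebraicTopology.alternatingCofaceMapComplex AddCommGrpCat.{u}).map_comp _ _).symm.trans
    ((congrArg _ ?_).trans ((AlgebraicTopology.alternatingCofaceMapComplex AddCommGrpCat.{u}).map_comp _ _))
  exact ((Functor.whiskeringLeft _ _ _).map (NatTrans.rightOp (FormalCoproduct.cechFunctor.map f))).naturality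
    ((FormalCoproduct.evalOp.{u} (Over U) AddCommGrpCat.{u}).map
      (((Functor.whiskeringLeft (Over U)ᵒᵖ Cᵒᵖ AddCommGrpCat.{u}).obj (Over.forget U).op).map φ))

/-- Refinement in Čech cohomology. -/
def refineH (P : Cᵒᵖ ⥤ AddCommGrpCat.{u}) (p : ℕ) : CohCx.cechH P Y' p →+ CohCx.cechH P Y p :=
  (HomologicalComplex.homologyMap (CohCx.cechRefine P f) p).hom

theorem refineH_natural {P Q : Cᵒᵖ ⥤ AddCommGrpCat.{u}} (φ : P ⟶ Q) (p : ℕ) (x : CohCx.cechH P Y' p) :
    refineH f Q p (CechEdge.cechHMap Y' φ p x) = CechEdge.cechHMap Y φ p (refineH f P p x) := by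
  have e := congrArg (fun q => HomologicalComplex.homologyMap q p) (cechRefine_natural f φ)
  simp only [HomologicalComplex.homologyMap_comp] at e
  exact ConcreteCategory.congr_hom e x

theorem refineH_delta {S : ShortComplex (Cᵒᵖ ⥤ AddCommGrpCat.{u})} (hS : S.ShortExact) (p : ℕ)
    (x : CohCx.cechH S.X₃ Y' p) : refineH f S.X₁ (p + 1) (cδ Y' hS p x) = cδ Y hS p (refineH f S.X₃ p x) := by
  let Φ : S.map (CechEdge.cxFunctor Y') ⟶ S.map (CechEdge.cxFunctor Y) :=
    { τ₁ := CohCx.cechRefine S.X₁ f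
      τ₂ := CohCx.cechRefine S.X₂ f
      τ₃ := CohCx.cechRefine S.X₃ f
      comm₁₂ := (cechRefine_natural f S.f).symm
      comm₂₃ := (cechRefine_natural f S.g).symm }
  exact ConcreteCategory.congr_hom (HomologicalComplex.HomologySequence.δ_naturality
    Φ (cx_shortExact Y' hS) (cx_shortExact Y hS) p (p + 1) rfl) x

theorem refineH_toCech (P : Cᵒᵖ ⥤ AddCommGrpCat.{u}) (s : P.obj (op U)) :
    refineH f P 0 (CechEdge.toCech Y' P s) = CechEdge.toCech Y P s := by
  have h : CechEdge.toCech₀ P Y' ≫ (CohCx.cechRefine P f).f 0 = 𝟙 _ ≫ CechEdge.toCech₀ P Y := by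
    refine Pi.hom_ext _ _ fun a => ?_
    rw [Category.id_comp, Category.assoc]
    refine (congrArg (CechEdge.toCech₀ P Y' ≫ ·) (Pi.lift_π _ a)).trans ?_
    refine (Category.assoc _ _ _).symm.trans ?_
    refine (congrArg (· ≫ _) (Pi.lift_π _ _)).trans ?_
    refine Eq.trans ?_ (Pi.lift_π (fun (i : Fin 1 → ι) => P.map (∏ᶜ (Y ∘ i)).hom.op) a).symm
    refine (P.map_comp _ _).symm.trans ?_
    exact congrArg P.map (congrArg Quiver.Hom.op (Over.w _))
  exact ConcreteCategory.congr_hom (class_natural (K := CechEdge.cx P Y') (L := CechEdge.cx P Y)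
    (CohCx.cechRefine P f) (𝟙 (P.obj (op U))) (CechEdge.toCech₀ P Y') (CechEdge.toCech₀ P Y)
    (CechEdge.toCech₀_d P Y') (CechEdge.toCech₀_d P Y) h) s

theorem edgeSh_refine
    {e : ∀ (P : Cᵒᵖ ⥤ AddCommGrpCat.{u}) (p : ℕ), CohCx.cechH P Y p →+ CohSite.HU (CechEdge.shf J P) p U}
    {e' : ∀ (P : Cᵒᵖ ⥤ AddCommGrpCat.{u}) (p : ℕ), CohCx.cechH P Y' p →+ CohSite.HU (CechEdge.shf J P) p U}
    (he : CechEdge.IsEdge J Y e) (he' : CechEdge.IsEdge J Y' e') (F : Sheaf J AddCommGrpCat.{u}) (p : ℕ)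
    (x : CohCx.cechH F.obj Y' p) :
    CechEdge.edgeSh e F p (refineH f F.obj p x) = CechEdge.edgeSh e' F p x := by
  have h : CechEdge.IsEdge J Y' (fun P p => (e P p).comp (refineH f P p)) :=
    { cover := he'.cover
      zero := fun P s => (congrArg (e P 0) (refineH_toCech f P s)).trans (he.zero P s)
      natural := fun P Q φ p x => (congrArg (e Q p) (refineH_natural f φ p x)).trans (he.natural P Q φ p _)
      delta := fun S hS hC p x => (congrArg (e S.X₁ (p + 1)) (refineH_delta f hS p x)).trans (edge_delta he hS p _) }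
  rw [← isEdge_unique h he']
  rfl

end Groth.Agent.CechEdgeLib
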