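import Groth.Agent.CechEdgeLib.Edge
import Mathlib.CategoryTheory.Sites.LocallyBijective

/-!
Comparison maps for sheaves: injectivity in degree one, bijectivity for acyclic coverings, the sheaf condition.
-/

set_option autoImplicit false
set_option linter.style.haveILetI false
set_option linter.unusedSectionVars false
set_option backward.isDefEq.respectTransparency false
set_option maxHeartbeats 1000000

universe u

open CategoryTheory CategoryTheory.Limits Opposite Abelian

noncomputable section

namespace Groth.Agent.CechEdgeLib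

variable {C : Type u} [SmallCategory C] [HasPullbacks C] {J : GrothendieckTopology C} {U : C} {ι : Type u}
  {Y : ι → Over U}
  {e : ∀ (P : Cᵒᵖ ⥤ AddCommGrpCat.{u}) (p : ℕ), CohCx.cechH P Y p →+ CohSite.HU (CechEdge.shf J P) p U}
  (he : CechEdge.IsEdge J Y e)

include he in
theorem edgeSh_toCech (F : Sheaf J AddCommGrpCat.{u}) (s : F.obj.obj (op U)) :
    CechEdge.edgeSh e F 0 (CechEdge.toCech Y F.obj s) = CechEdge.sectH0 J U F s := by
  have h : toSheafify J F.obj ≫ ((sheafificationAdjunction J AddCommGrpCat.{u}).counit.app F).hom = 𝟙 _ :=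
    (sheafificationAdjunction J AddCommGrpCat.{u}).right_triangle_components F
  show CechEdge.HUmap ((sheafificationAdjunction J AddCommGrpCat.{u}).counit.app F) 0 U (e F.obj 0 _) = _
  rw [he.zero F.obj s]
  refine (sectH0_natural ((sheafificationAdjunction J AddCommGrpCat.{u}).counit.app F) _).trans ?_
  exact congrArg _ (ConcreteCategory.congr_hom (NatTrans.congr_app h (op U)) s)

include he in
theorem edgeSh_zero_bijective (F : Sheaf J AddCommGrpCat.{u}) : Function.Bijective (CechEdge.edgeSh e F 0) := by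
  refine (toCech_bijective Y he.cover F).of_comp_iff _ |>.mp ?_
  rw [show (CechEdge.edgeSh e F 0 : CohCx.cechH F.obj Y 0 → CohSite.HU F 0 U) ∘ CechEdge.toCech Y F.obj =
    CechEdge.sectH0 J U F from funext (edgeSh_toCech he F)]
  exact (CechEdge.sectH0 J U F).bijective

include he in
theorem edgeSh_natural {F G : Sheaf J AddCommGrpCat.{u}} (f : F ⟶ G) (p : ℕ) (x : CohCx.cechH F.obj Y p) :
    CechEdge.edgeSh e G p (CechEdge.cechHMap Y f.hom p x) = CechEdge.HUmap f p U (CechEdge.edgeSh e F p x) := by
  show CechEdge.HUmap ((sheafificationAdjunction J AddCommGrpCat.{u}).counit.app G) p U (e G.obj p _) =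
    CechEdge.HUmap f p U (CechEdge.HUmap ((sheafificationAdjunction J AddCommGrpCat.{u}).counit.app F) p U (e F.obj p x))
  rw [he.natural F.obj G.obj f.hom p x]
  refine (HUmap_comp _ _ p _).symm.trans (Eq.trans ?_ (HUmap_comp _ _ p _))
  exact congrArg (fun q => CechEdge.HUmap q p U (e F.obj p x))
    ((sheafificationAdjunction J AddCommGrpCat.{u}).counit.naturality f)

/-- The presheaf short complex attached to a short exact sequence of sheaves. -/
abbrev preSeq (S : ShortComplex (Sheaf J AddCommGrpCat.{u})) : ShortComplex (Cᵒᵖ ⥤ AddCommGrpCat.{u}) :=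
  ShortComplex.mk S.f.hom (cokernel.π S.f.hom) (cokernel.condition _)

/-- The map from the presheaf cokernel to the sheaf cokernel. -/
abbrev preψ (S : ShortComplex (Sheaf J AddCommGrpCat.{u})) : (preSeq S).X₃ ⟶ S.X₃.obj :=
  cokernel.desc S.f.hom S.g.hom (congrArg (fun q : S.X₁ ⟶ S.X₃ => q.hom) S.zero)

variable {S : ShortComplex (Sheaf J AddCommGrpCat.{u})} (hS : S.ShortExact)

include hS in
theorem preSeq_shortExact : (preSeq S).ShortExact := by
  haveI := hS.mono_f
  haveI : Mono S.f.hom := inferInstanceAs (Mono ((sheafToPresheaf J AddCommGrpCat.{u}).map S.f))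
  exact { exact := ShortComplex.exact_of_g_is_cokernel _ (cokernelIsCokernel _) }

include hS in
theorem preψ_injective (V : Cᵒᵖ) : Function.Injective ((preψ S).app V) := by
  rw [injective_iff_map_eq_zero]
  intro q hq
  haveI : Epi ((cokernel.π S.f.hom).app V) := inferInstance
  obtain ⟨x, rfl⟩ := (AddCommGrpCat.epi_iff_surjective ((cokernel.π S.f.hom).app V)).mp inferInstance q
  have hx : S.g.hom.app V x = 0 := by
    rw [← show (cokernel.π S.f.hom ≫ preψ S) = S.g.hom from cokernel.π_desc _ _ _]
    exact hq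
  obtain ⟨w, rfl⟩ := SiteCoh.sections_exact hS V.unop x hx
  exact ConcreteCategory.congr_hom (NatTrans.congr_app (cokernel.condition S.f.hom) V) w

theorem cx_map_injective {P Q : Cᵒᵖ ⥤ AddCommGrpCat.{u}} (φ : P ⟶ Q) (n : ℕ)
    (h : ∀ a : Fin (n + 1) → ι, Function.Injective (φ.app (op (CechGen.tupleProd Y a).left))) :
    Function.Injective (((CechEdge.cxFunctor Y).map φ).f n) := fun x y hxy =>
  (CechGen.cochainEquiv Y ((Over.forget U).op ⋙ P) n).injective (funext fun a => h a
    ((CechGen.cxFun_apply Y φ n x a).symm.trans ((congrFun (congrArg _ hxy) a).trans (CechGen.cxFun_apply Y φ n y a))))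

theorem cx_map_bijective {P Q : Cᵒᵖ ⥤ AddCommGrpCat.{u}} (φ : P ⟶ Q) (n : ℕ)
    (h : ∀ a : Fin (n + 1) → ι, Function.Bijective (φ.app (op (CechGen.tupleProd Y a).left))) :
    Function.Bijective (((CechEdge.cxFunctor Y).map φ).f n) := by
  refine ⟨cx_map_injective φ n fun a => (h a).1, fun z => ?_⟩
  choose w hw using fun a => (h a).2 (CechGen.cochainEquiv Y ((Over.forget U).op ⋙ Q) n z a)
  refine ⟨(CechGen.cochainEquiv Y ((Over.forget U).op ⋙ P) n).symm w,
    (CechGen.cochainEquiv Y ((Over.forget U).op ⋙ Q) n).injective (funext fun a => ?_)⟩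
  refine (CechGen.cxFun_apply Y φ n _ a).trans ?_
  rw [AddEquiv.apply_symm_apply]
  exact hw a

theorem homologyMap_zero_injective {K L : CochainComplex AddCommGrpCat.{u} ℕ} (f : K ⟶ L)
    (h : Function.Injective (f.f 0)) : Function.Injective (HomologicalComplex.homologyMap f 0) := by
  haveI : IsIso (K.homologyπ 0) := K.isIso_homologyπ _ 0 rfl (K.shape _ _ (by simp))
  haveI : IsIso (L.homologyπ 0) := L.isIso_homologyπ _ 0 rfl (L.shape _ _ (by simp))
  haveI : Mono (f.f 0) := (AddCommGrpCat.mono_iff_injective _).mpr h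
  haveI : Mono (HomologicalComplex.cyclesMap f 0 ≫ L.iCycles 0) := by
    rw [HomologicalComplex.cyclesMap_i]; infer_instance
  haveI : Mono (HomologicalComplex.cyclesMap f 0) := mono_of_mono _ (L.iCycles 0)
  haveI : Mono (K.homologyπ 0 ≫ HomologicalComplex.homologyMap f 0) := by
    rw [HomologicalComplex.homologyπ_naturality]; infer_instance
  haveI : Mono (HomologicalComplex.homologyMap f 0) := by
    rw [← IsIso.inv_hom_id_assoc (K.homologyπ 0) (HomologicalComplex.homologyMap f 0)]
    infer_instance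
  exact (AddCommGrpCat.mono_iff_injective _).mp inferInstance

theorem cechHMap_bijective {P Q : Cᵒᵖ ⥤ AddCommGrpCat.{u}} (φ : P ⟶ Q)
    (h : ∀ (n : ℕ) (a : Fin (n + 1) → ι), Function.Bijective (φ.app (op (CechGen.tupleProd Y a).left))) (p : ℕ) :
    Function.Bijective (CechEdge.cechHMap Y φ p) := by
  haveI : ∀ n, IsIso (((CechEdge.cxFunctor Y).map φ).f n) := fun n =>
    (ConcreteCategory.isIso_iff_bijective _).mpr (cx_map_bijective φ n (h n))
  haveI : IsIso ((CechEdge.cxFunctor Y).map φ) := HomologicalComplex.Hom.isIso_of_components _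
  exact (ConcreteCategory.isIso_iff_bijective (HomologicalComplex.homologyMap ((CechEdge.cxFunctor Y).map φ) p)).mp
    inferInstance

include he in
theorem edgeSh_delta (p : ℕ) (z : CohCx.cechH (preSeq S).X₃ Y p) :
    CechEdge.edgeSh e S.X₁ (p + 1) (cδ Y (preSeq_shortExact hS) p z) =
      CechEdge.extδ hS U p (CechEdge.edgeSh e S.X₃ p (CechEdge.cechHMap Y (preψ S) p z)) := by
  let η := (sheafificationAdjunction J AddCommGrpCat.{u}).counit
  let Φ : (preSeq S).map (presheafToSheaf J AddCommGrpCat.{u}) ⟶ S :=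
    { τ₁ := η.app S.X₁
      τ₂ := η.app S.X₂
      τ₃ := (presheafToSheaf J AddCommGrpCat.{u}).map (preψ S) ≫ η.app S.X₃
      comm₁₂ := (η.naturality S.f).symm
      comm₂₃ := by
        refine (η.naturality S.g).symm.trans ?_
        show (presheafToSheaf J AddCommGrpCat.{u}).map S.g.hom ≫ η.app S.X₃ =
          (presheafToSheaf J AddCommGrpCat.{u}).map (cokernel.π S.f.hom) ≫ _
        rw [← Category.assoc, ← Functor.map_comp, cokernel.π_desc] }
  show CechEdge.HUmap (η.app S.X₁) (p + 1) U (e (preSeq S).X₁ (p + 1) _) = CechEdge.extδ hS U p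
    (CechEdge.HUmap (η.app S.X₃) p U (e S.X₃.obj p _))
  rw [edge_delta he (preSeq_shortExact hS) p z]
  refine (extδ_natural ((preSeq_shortExact hS).map_of_exact _) hS Φ p _).trans (congrArg _ ?_)
  refine (HUmap_comp _ _ p _).trans (congrArg _ ?_)
  exact (he.natural _ _ (preψ S) p z).symm

variable (F : Sheaf J AddCommGrpCat.{u})

theorem isZero_cechH_sheaf (I : Sheaf J AddCommGrpCat.{u}) [Injective I] (p : ℕ) :
    IsZero (CohCx.cechH I.obj Y (p + 1)) := by
  haveI : Injective I.obj := Injective.injective_of_adjoint (sheafificationAdjunction J AddCommGrpCat.{u}) I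
  exact isZero_cechH_injective Y I.obj p

include he in
theorem edgeSh_succ_injective (p : ℕ)
    (hψ : Function.Injective (CechEdge.cechHMap Y (preψ (SiteCoh.embedSeq F)) p))
    (hG : Function.Injective (CechEdge.edgeSh e (SiteCoh.embedSeq F).X₃ p)) :
    Function.Injective (CechEdge.edgeSh e F (p + 1)) := by
  have hS := SiteCoh.embedSeq_shortExact F
  haveI : Injective (preSeq (SiteCoh.embedSeq F)).X₂ :=
    Injective.injective_of_adjoint (sheafificationAdjunction J AddCommGrpCat.{u}) (SiteCoh.embedSeq F).X₂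
  rw [injective_iff_map_eq_zero]
  intro x hx
  obtain ⟨z, rfl⟩ := cδ_surjective Y (preSeq_shortExact hS) p x
  obtain ⟨w, hw⟩ := Ext.covariant_sequence_exact₃ (CohCx.freeSheaf J U) hS _ rfl
    ((edgeSh_delta he hS p z).symm.trans hx)
  obtain ⟨y, rfl⟩ : ∃ y, CechEdge.edgeSh e (SiteCoh.embedSeq F).X₂ p y = w := by
    cases p with
    | zero => exact (edgeSh_zero_bijective he _).2 w
    | succ p =>
      haveI : Subsingleton (CohSite.HU (SiteCoh.embedSeq F).X₂ (p + 1) U) :=
        SiteCoh.subsingleton_ext_injective _ _ p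
      exact ⟨0, Subsingleton.elim _ _⟩
  have hz : z = CechEdge.cechHMap Y (preSeq (SiteCoh.embedSeq F)).g p y := by
    refine hψ (hG (hw.symm.trans ?_))
    refine (edgeSh_natural he (SiteCoh.embedSeq F).g p y).symm.trans (congrArg _ ?_)
    rw [← cechHMap_comp]
    exact congrArg (fun q => CechEdge.cechHMap Y q p y) (cokernel.π_desc _ _ _).symm
  subst hz
  exact ConcreteCategory.congr_hom ((cx_shortExact Y (preSeq_shortExact hS)).comp_δ p (p + 1) rfl) y

include he in
theorem edgeSh_succ_surjective (p : ℕ)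
    (hψ : Function.Surjective (CechEdge.cechHMap Y (preψ (SiteCoh.embedSeq F)) p))
    (hG : Function.Surjective (CechEdge.edgeSh e (SiteCoh.embedSeq F).X₃ p)) :
    Function.Surjective (CechEdge.edgeSh e F (p + 1)) := by
  intro x
  have hS := SiteCoh.embedSeq_shortExact F
  haveI : Subsingleton (Ext (CohCx.freeSheaf J U) (SiteCoh.embedSeq F).X₂ (p + 1)) :=
    SiteCoh.subsingleton_ext_injective _ _ p
  obtain ⟨w, hw⟩ := Ext.covariant_sequence_exact₁ (CohCx.freeSheaf J U) hS x (Subsingleton.elim _ _) rfl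
  obtain ⟨a, ha⟩ := hG w
  obtain ⟨z, hz⟩ := hψ a
  exact ⟨cδ Y (preSeq_shortExact hS) p z, (edgeSh_delta he hS p z).trans (by rw [hz, ha]; exact hw)⟩

include he in
theorem edgeSh_one_injective : Function.Injective (CechEdge.edgeSh e F 1) :=
  edgeSh_succ_injective he F 0
    (homologyMap_zero_injective _ (cx_map_injective _ 0 fun _ =>
      preψ_injective (SiteCoh.embedSeq_shortExact F) _))
    (edgeSh_zero_bijective he _).1

include he in
theorem edgeSh_bijective_of_acyclic (p : ℕ) : ∀ F : Sheaf J AddCommGrpCat.{u},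
    (∀ (n : ℕ) (a : Fin (n + 1) → ι) (q : ℕ),
      Subsingleton (CohSite.HU F (q + 1) (∏ᶜ fun k => Y (a k)).left)) →
    Function.Bijective (CechEdge.edgeSh e F p) := by
  induction p with
  | zero => exact fun F _ => edgeSh_zero_bijective he F
  | succ p ih =>
    intro F hF
    have hψ : Function.Bijective (CechEdge.cechHMap Y (preψ (SiteCoh.embedSeq F)) p) := by
      refine cechHMap_bijective _ (fun n a => ⟨preψ_injective (SiteCoh.embedSeq_shortExact F) _, fun t => ?_⟩) p
      haveI : Subsingleton (CohSite.HU (SiteCoh.embedSeq F).X₁ 1 (CechGen.tupleProd Y a).left) := hF n a 0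
      obtain ⟨s, hs⟩ := SiteCoh.sections_surjective (SiteCoh.embedSeq_shortExact F) (CechGen.tupleProd Y a).left t
      refine ⟨(cokernel.π (SiteCoh.embedSeq F).f.hom).app _ s, Eq.trans ?_ hs⟩
      exact ConcreteCategory.congr_hom (NatTrans.congr_app (cokernel.π_desc _ _ _) _) s
    have hG := ih (SiteCoh.embedSeq F).X₃ fun n a q => SiteCoh.acyclic_quotient _ (hF n a) q
    exact ⟨edgeSh_succ_injective he F p hψ.1 hG.1, edgeSh_succ_surjective he F p hψ.2 hG.2⟩

end Groth.Agent.CechEdgeLib
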